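import Cfsg.Agent.H715.Fpr.Row4_m3
import Cfsg.Agent.H940.EngData
import Cfsg.Agent.H898.J3Cent
import Cfsg.Agent.CpAutJThree.Row
import Cfsg.Agent.FastGrp
import Cfsg.Agent.Prune
set_option linter.all false
prune_inst 0x7f00000000000000000000000000000000000000000000000000000000000000000000000000000000000000000000000000000000000000000000000000000000000000000000000000000000000000003fffffffffffffffffffffffffffbeffbdffffffff
open scoped Cfsg.Agent.FastGrp

/-!
# Fixed point ratios: `J3` (helper715)
-/

set_option autoImplicit false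

namespace Cfsg.Agent.H715.Fpr.J3

open Subgroup Cfsg.Agent.H409 Cfsg.Agent.OrdDiv Cfsg.Agent.H940.Eng Cfsg.Agent.H940.Eng.D Cfsg.Spor
open Cfsg.Agent.J3Type.OneClass

variable {G : Type} [Group G]

theorem card (h : IsoJ3 G) : Nat.card G = n_j3 := (H898.J3Cent.base h).2.1
theorem simple (h : IsoJ3 G) : IsSimpleGroup G := (H898.J3Cent.base h).1
theorem fin (h : IsoJ3 G) : Finite G := Nat.finite_of_card_ne_zero (by rw [card h]; decide)

theorem cn17 (h : IsoJ3 G) {R : Subgroup G} (hR : Nat.card R = 17) :
    Nat.card (centralizer (R : Set G)) = 17 ∧ Nat.card (normalizer (R : Set G)) = 136 := by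
  obtain ⟨x, hx, rfl⟩ := eq_zpowers' (by norm_num) hR
  rw [cent_zpowers']
  exact H898.J3Cent.seventeen h hx

theorem cn19 (h : IsoJ3 G) {R : Subgroup G} (hR : Nat.card R = 19) :
    Nat.card (centralizer (R : Set G)) = 19 ∧ Nat.card (normalizer (R : Set G)) = 171 := by
  obtain ⟨x, hx, rfl⟩ := eq_zpowers' (by norm_num) hR
  rw [cent_zpowers']
  exact ⟨H898.J3Cent.card_nineteen h hx, H898.J3Cent.card_normalizer_nineteen h hx⟩

def loc : List LD := [⟨17, 17, [(2, 3), (17, 1)]⟩, ⟨19, 19, [(3, 2), (19, 1)]⟩]

theorem ctx (B : Base) (h : IsoJ3 G) : Ctx G l_j3 n_j3 o_j3 loc where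
  fin := fin h
  simple := simple h
  card := card h
  val := v_j3
  nodup := nd_j3
  ords := ords_j3 B
  loc := by
    have := fin h
    have := simple h
    intro ld hld
    simp only [loc, List.mem_cons, List.not_mem_nil, or_false] at hld
    rcases hld with rfl | rfl
    · exact loc_of_eq (card h) (by decide +kernel) (by decide +kernel) (by decide +kernel) fun R hR => by
        obtain ⟨h1, h2⟩ := cn17 h hR
        rw [h1, h2]; decide
    · exact loc_of_eq (card h) (by decide +kernel) (by decide +kernel) (by decide +kernel) fun R hR => by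
        obtain ⟨h1, h2⟩ := cn19 h hR
        rw [h1, h2]; decide

theorem row2 (B : Base) (h : IsoJ3 G) : FprRow 3 1 2 G := by
  have := fin h
  exact row_of_act2 (ctx B h) (q := 17) (N := 136) (by decide +kernel) (by decide +kernel) (by decide +kernel)
    (acts_of (card h) (by decide +kernel) (by decide +kernel) (by decide +kernel) (fun _ hR => cn17 h hR) 1
      (by decide +kernel))
    (fun _ hR => (cn17 h hR).2.le) 28 0 lb_zero 0 (by decide +kernel)

theorem row3 (B : Base) (h : IsoJ3 G) : FprRow 4 1 3 G := by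
  have := fin h
  exact row_of_act2 (ctx B h) (q := 19) (N := 171) (by decide +kernel) (by decide +kernel) (by decide +kernel)
    (acts_of (card h) (by decide +kernel) (by decide +kernel) (by decide +kernel) (fun _ hR => cn19 h hR) 1
      (by decide +kernel))
    (fun _ hR => (cn19 h hR).2.le) 44 0 lb_zero 0 (by decide +kernel)

theorem row17 (B : Base) (h : IsoJ3 G) : FprRow 18 1 17 G :=
  row_of_norm2 (ctx B h) (by decide +kernel) (fun _ hR => (cn17 h hR).2.le) 144 0 lb_zero 0 (by decide +kernel)

theorem row19 (B : Base) (h : IsoJ3 G) : FprRow 20 1 19 G :=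
  row_of_norm2 (ctx B h) (by decide +kernel) (fun _ hR => (cn19 h hR).2.le) 180 0 lb_zero 0 (by decide +kernel)

/-! ### the prime 5 -/

/-- an involution commuting with an element of order 5 -/
theorem exists_inv (h : IsoJ3 G) {x : G} (hx : orderOf x = 5) : ∃ t : G, orderOf t = 2 ∧ t * x = x * t := by
  have := fin h
  obtain ⟨-, hc, hM⟩ := H898.J3Cent.base h
  have f2 := Fact.mk Nat.prime_two
  have f5 := Fact.mk Nat.prime_five
  obtain ⟨s, hs⟩ := exists_prime_orderOf_dvd_card' (G := G) 2 (by rw [hc]; norm_num)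
  obtain ⟨-, hcs, -⟩ := hM s hs
  obtain ⟨g, hg⟩ := exists_conj_le (X := G) Nat.prime_five (by rw [hc]; norm_num) (R := zpowers x)
    (by rw [Nat.card_zpowers, hx]) (L := centralizer ({s} : Set G)) (by rw [hcs]; norm_num)
  have h1 : g * x * g⁻¹ ∈ centralizer ({s} : Set G) := hg ⟨x, mem_zpowers x, rfl⟩
  rw [mem_centralizer_singleton_iff] at h1
  refine ⟨g⁻¹ * s * g, ?_, ?_⟩
  · have h2 : g⁻¹ * s * g = MulAut.conj g⁻¹ s := by simp
    rw [h2, MulEquiv.orderOf_eq, hs]
  · calc g⁻¹ * s * g * x = g⁻¹ * (s * (g * x * g⁻¹)) * g := by group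
      _ = g⁻¹ * (g * x * g⁻¹ * s) * g := by rw [h1]
      _ = x * (g⁻¹ * s * g) := by group

theorem card_ct (h : IsoJ3 G) {x t : G} (hx : orderOf x = 5) (ht : orderOf t = 2) (hc : t * x = x * t) :
    Nat.card ↥(centralizer ({t} : Set G) ⊓ centralizer ({x} : Set G)) = 10 := by
  have := fin h
  obtain ⟨-, -, hM⟩ := H898.J3Cent.base h
  obtain ⟨-, hcard, Q, v, ρ, M⟩ := hM t ht
  have hxC : x ∈ centralizer ({t} : Set G) := by rw [mem_centralizer_singleton_iff]; exact hc.symm
  have h1 := J2Type.COdd.card_cent_five M hcard (c := ⟨x, hxC⟩) (by rw [Subgroup.orderOf_mk, hx])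
  rw [← h1]
  refine Nat.card_congr ⟨fun a => ⟨⟨a.1, a.2.1⟩, Subtype.ext (mem_centralizer_singleton_iff.1 a.2.2)⟩,
    fun a => ⟨a.1.1, a.1.2, mem_centralizer_singleton_iff.2 (congrArg Subtype.val a.2)⟩, fun _ => rfl, fun _ => rfl⟩

/-- a 2-group containing an involution with centralizer of order at most two is small -/
theorem four_of_comm {X : Type} [Group X] [Finite X] (h4 : 4 ∣ Nat.card X) {t : X} (ht : orderOf t = 2) :
    4 ∣ Nat.card (centralizer ({t} : Set X)) := by
  have f2 := Fact.mk Nat.prime_two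
  obtain ⟨T, hT⟩ := (IsPGroup.of_card (G := zpowers t) (p := 2) (n := 1) (by rw [Nat.card_zpowers, ht, pow_one])).exists_le_sylow
  have htT : t ∈ (T : Subgroup X) := hT (mem_zpowers t)
  have hT4 : 4 ∣ Nat.card (T : Subgroup X) := by
    have h1 := T.pow_dvd_card_of_pow_dvd_card (n := 2) (by simpa using h4)
    simpa using h1
  have hnt : Nontrivial (T : Subgroup X) := by
    rw [← Finite.one_lt_card_iff_nontrivial]
    have := Nat.le_of_dvd Nat.card_pos hT4
    omega
  have hz := T.isPGroup'.center_nontrivial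
  by_cases htc : (⟨t, htT⟩ : (T : Subgroup X)) ∈ center (T : Subgroup X)
  · have h1 : (T : Subgroup X) ≤ centralizer ({t} : Set X) := by
      intro y hy
      rw [mem_centralizer_singleton_iff]
      exact congrArg Subtype.val ((mem_center_iff.1 htc) ⟨y, hy⟩)
    exact hT4.trans (card_dvd_of_le h1)
  · -- the product of the center and `⟨t⟩`
    set Z := (center (T : Subgroup X)).map (T : Subgroup X).subtype with hZ
    have hZc : 2 ∣ Nat.card Z := by
      rw [hZ, card_map_of_injective (subtype_injective _)]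
      have h1 : IsPGroup 2 (center (T : Subgroup X)) := T.isPGroup'.to_subgroup _
      obtain ⟨k, hk⟩ := IsPGroup.iff_card.1 h1
      have h2 : 1 < Nat.card (center (T : Subgroup X)) := Finite.one_lt_card
      rw [hk] at h2 ⊢
      exact dvd_pow_self 2 (by rintro rfl; simp at h2)
    have htZ : t ∉ Z := by
      rintro ⟨y, hy, hyt⟩
      apply htc
      have : y = ⟨t, htT⟩ := Subtype.ext hyt
      rwa [← this]
    have hcomm : ∀ z ∈ Z, z * t = t * z := by
      rintro _ ⟨y, hy, rfl⟩
      have := (mem_center_iff.1 hy) ⟨t, htT⟩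
      exact (congrArg Subtype.val this).symm
    have hinj : Function.Injective (fun a : Z × zpowers t => (⟨(a.1 : X) * (a.2 : X), by
        rw [mem_centralizer_singleton_iff]
        obtain ⟨k, hk⟩ := mem_zpowers_iff.1 a.2.2
        have h1 := hcomm a.1 a.1.2
        have h2 : (a.2 : X) * t = t * (a.2 : X) := by rw [← hk]; exact ((Commute.refl t).zpow_left k).eq
        rw [mul_assoc, h2, ← mul_assoc, h1, mul_assoc]⟩ : centralizer ({t} : Set X))) := by
      rintro ⟨⟨z, hz⟩, ⟨a, ha⟩⟩ ⟨⟨z', hz'⟩, ⟨a', ha'⟩⟩ h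
      have h1 : z * a = z' * a' := congrArg Subtype.val h
      have h2 : z'⁻¹ * z = a' * a⁻¹ := by
        calc z'⁻¹ * z = z'⁻¹ * (z * a) * a⁻¹ := by group
          _ = a' * a⁻¹ := by rw [h1]; group
      have h3 : z'⁻¹ * z ∈ Z := mul_mem (inv_mem hz') hz
      have h4 : z'⁻¹ * z ∈ zpowers t := by rw [h2]; exact mul_mem ha' (inv_mem ha)
      have h5 : z'⁻¹ * z = 1 := by
        by_contra hne
        apply htZ
        have h6 : zpowers (z'⁻¹ * z) = zpowers t := by
          apply eq_of_le_of_card_ge (zpowers_le.2 h4)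
          have h7 : orderOf (z'⁻¹ * z) ∣ 2 := by
            have h7 := Subgroup.orderOf_dvd_natCard _ h4
            rwa [Nat.card_zpowers, ht] at h7
          have h8 : orderOf (z'⁻¹ * z) = 2 := ((Nat.dvd_prime Nat.prime_two).1 h7).resolve_left
            fun h => hne (orderOf_eq_one_iff.1 h)
          rw [Nat.card_zpowers, Nat.card_zpowers, h8, ht]
        have h9 : t ∈ zpowers (z'⁻¹ * z) := by rw [h6]; exact mem_zpowers t
        exact (zpowers_le.2 h3) h9
      have h6 : z' = z := inv_mul_eq_one.1 h5
      subst h6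
      have h7 : a = a' := mul_left_cancel h1
      subst h7
      rfl
    -- the subgroup generated
    let W : Subgroup X := Z ⊔ zpowers t
    have hW : W ≤ centralizer ({t} : Set X) := by
      apply sup_le
      · intro z hz
        rw [mem_centralizer_singleton_iff]
        exact hcomm z hz
      · rw [zpowers_le, mem_centralizer_singleton_iff]
    have hp2 : IsPGroup 2 W := by
      refine T.isPGroup'.to_le (K := (T : Subgroup X)) ?_
      exact sup_le (map_subtype_le _) (zpowers_le.2 htT)
    obtain ⟨k, hk⟩ := IsPGroup.iff_card.1 hp2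
    have hW4 : 4 ≤ Nat.card W := by
      have h1 : Nat.card (Z × zpowers t) ≤ Nat.card W := by
        refine Nat.card_le_card_of_injective (fun a : Z × zpowers t => (⟨(a.1 : X) * (a.2 : X),
          mul_mem (mem_sup_left a.1.2) (mem_sup_right a.2.2)⟩ : W)) ?_
        intro a b hab
        apply hinj
        apply Subtype.ext
        have h2 : (a.1 : X) * (a.2 : X) = (b.1 : X) * (b.2 : X) := congrArg Subtype.val hab
        exact h2
      rw [Nat.card_prod, Nat.card_zpowers, ht] at h1
      have h2 := Nat.le_of_dvd Nat.card_pos hZc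
      omega
    have hk2 : 2 ≤ k := by
      by_contra hlt
      have : k ≤ 1 := by omega
      rw [hk] at hW4
      have := Nat.pow_le_pow_right (by norm_num : 0 < 2) this
      omega
    have h4W : 4 ∣ Nat.card W := by rw [hk]; exact pow_dvd_pow 2 hk2
    exact h4W.trans (card_dvd_of_le hW)

theorem not_four (h : IsoJ3 G) {x : G} (hx : orderOf x = 5) : ¬ 4 ∣ Nat.card (centralizer ({x} : Set G)) := by
  intro h4
  have := fin h
  obtain ⟨t, ht, hc⟩ := exists_inv h hx
  have htC : t ∈ centralizer ({x} : Set G) := by rw [mem_centralizer_singleton_iff]; exact hc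
  have h1 := four_of_comm h4 (t := ⟨t, htC⟩) (by rw [Subgroup.orderOf_mk, ht])
  have h2 : Nat.card ↥(centralizer ({(⟨t, htC⟩ : centralizer ({x} : Set G))} : Set (centralizer ({x} : Set G)))) =
      Nat.card ↥(centralizer ({t} : Set G) ⊓ centralizer ({x} : Set G)) := by
    refine Nat.card_congr ⟨fun a => ⟨a.1.1, mem_centralizer_singleton_iff.2
      (congrArg Subtype.val (mem_centralizer_singleton_iff.1 a.2)), a.1.2⟩,
      fun a => ⟨⟨a.1, a.2.2⟩, mem_centralizer_singleton_iff.2 (Subtype.ext (mem_centralizer_singleton_iff.1 a.2.1))⟩,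
      fun _ => rfl, fun _ => rfl⟩
  rw [h2, card_ct h hx ht hc] at h1
  norm_num at h1

theorem cn5 (h : IsoJ3 G) {R : Subgroup G} (hR : Nat.card R = 5) :
    (Nat.card (centralizer (R : Set G)) = 30 ∧ Nat.card (normalizer (R : Set G)) = 60) ∨
    (Nat.card (centralizer (R : Set G)) = 90 ∧ Nat.card (normalizer (R : Set G)) = 360) ∨
    (Nat.card (centralizer (R : Set G)) = 2430 ∧ Nat.card (normalizer (R : Set G)) = 4860) := by
  have := fin h
  have := simple h
  obtain ⟨x, hx, rfl⟩ := eq_zpowers' (by norm_num) hR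
  have h2 : 2 ∣ Nat.card (centralizer ({x} : Set G)) := by
    obtain ⟨t, ht, hc⟩ := exists_inv h hx
    rw [← ht]
    exact Subgroup.orderOf_dvd_natCard _ (mem_centralizer_singleton_iff.2 hc)
  have hcd : ∀ r : ℕ, r = 17 ∨ r = 19 → ¬ r ∣ Nat.card (centralizer ((zpowers x : Subgroup G) : Set G)) := by
    intro r hr hd
    have hrp : r.Prime := by rcases hr with rfl | rfl <;> norm_num
    have fr := Fact.mk hrp
    obtain ⟨y, hy⟩ := exists_prime_orderOf_dvd_card' r hd
    have hyo : orderOf (y : G) = r := by rw [Subgroup.orderOf_coe, hy]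
    have hxy : x ∈ centralizer ((zpowers (y : G) : Subgroup G) : Set G) := by
      rw [cent_zpowers', mem_centralizer_singleton_iff]
      exact mem_centralizer_iff.1 y.2 x (mem_zpowers x)
    have h3 := Subgroup.orderOf_dvd_natCard _ hxy
    rw [hx] at h3
    have hyR : Nat.card (zpowers (y : G)) = r := by rw [Nat.card_zpowers, hyo]
    rcases hr with rfl | rfl
    · rw [(cn17 h hyR).1] at h3; norm_num at h3
    · rw [(cn19 h hyR).1] at h3; norm_num at h3
  have hna : ¬ ∀ a b : G, a * b = b * a := by
    intro hab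
    have h1 : centralizer ({x} : Set G) = ⊤ := by
      rw [eq_top_iff]
      intro y _
      rw [mem_centralizer_singleton_iff]
      exact hab y x
    have h3 := hcd 17 (Or.inl rfl)
    rw [cent_zpowers', h1, card_top, card h] at h3
    exact h3 (by decide)
  have hd : Nat.card (centralizer ((zpowers x : Subgroup G) : Set G)) ∣ n_j3 := by
    rw [← card h]; exact card_subgroup_dvd_card _
  have hC : Nat.card (centralizer ((zpowers x : Subgroup G) : Set G)) ∣
      prodl [(2, 1), (3, 5), (5, 1), (17, 0), (19, 0)] := by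
    refine dvd_caps v_j3 hd (by decide +kernel) ?_ ?_
    · intro y hy
      simp only [List.mem_cons, List.not_mem_nil, or_false] at hy
      rcases hy with rfl | rfl | rfl | rfl | rfl <;> norm_num
    · intro y hy
      simp only [List.mem_cons, List.not_mem_nil, or_false] at hy
      rcases hy with rfl | rfl | rfl | rfl | rfl
      · rw [cent_zpowers']
        exact not_four h hx
      · exact fun h3 => absurd (h3.trans hd) (by decide)
      · exact fun h3 => absurd (h3.trans hd) (by decide)
      · exact hcd 17 (Or.inl rfl)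
      · exact hcd 19 (Or.inr rfl)
  have key := cnP_sound hna (card h) (r := 5) (fC := [(2, 1), (3, 5), (5, 1), (17, 0), (19, 0)]) (by decide +kernel) (by decide +kernel)
    (by decide +kernel) hR hC (P := fun c m => c % 2 != 0 || (c == 30 && m == 60) || (c == 90 && m == 360) ||
      (c == 2430 && m == 4860)) (by decide +kernel) hR
  rw [cent_zpowers'] at key ⊢
  simp only [Bool.or_eq_true, Bool.and_eq_true, bne_iff_ne, beq_iff_eq] at key
  rcases key with ((key | key) | key) | key
  · exact absurd (Nat.mod_eq_zero_of_dvd h2) key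
  · exact Or.inl key
  · exact Or.inr (Or.inl key)
  · exact Or.inr (Or.inr key)

theorem not_2430 (h : IsoJ3 G) {x : G} (hx : orderOf x = 5) : Nat.card (centralizer ({x} : Set G)) ≠ 2430 := by
  intro hC
  have := fin h
  have f2 := Fact.mk Nat.prime_two
  have f3 := Fact.mk Nat.prime_three
  obtain ⟨t, ht, hc⟩ := exists_inv h hx
  set C := centralizer ({x} : Set G) with hCdef
  have htC : t ∈ C := by rw [hCdef, mem_centralizer_singleton_iff]; exact hc
  have hxC : x ∈ C := by rw [hCdef, mem_centralizer_singleton_iff]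
  -- the normal complement
  let P : Sylow 2 C := default
  have hP : Nat.card P = 2 := by
    rw [P.card_eq_multiplicity, hC]
    have : (2430 : ℕ).factorization 2 = 1 := by
      rw [show (2430 : ℕ) = 2 ^ 1 * 1215 by norm_num, Nat.factorization_mul (by norm_num) (by norm_num),
        Finsupp.add_apply, Nat.prime_two.factorization_pow, Finsupp.single_eq_same,
        Nat.factorization_eq_zero_of_not_dvd (by norm_num)]
    rw [this, pow_one]
  have hcyc : IsCyclic P := isCyclic_of_prime_card hP
  have hmin : (Nat.card C).minFac = 2 := by rw [hC]; exact (Nat.minFac_eq_two_iff _).2 (by norm_num)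
  have hcomp := IsCyclic.isComplement' hmin (P := P) hcyc
  set K := (MonoidHom.transferSylow P (IsCyclic.normalizer_le_centralizer hmin hcyc)).ker with hK
  have hKc : Nat.card K = 1215 := by
    have h1 := hcomp.card_mul_card
    have h2 : Nat.card (P : Subgroup C) = 2 := hP
    rw [h2, hC] at h1
    omega
  -- the Sylow 3-subgroup of the complement
  let T : Sylow 3 K := default
  have hT : Nat.card (T : Subgroup K) = 243 := by
    have h1 := T.card_eq_multiplicity
    rw [hKc] at h1
    have h2 : (1215 : ℕ).factorization 3 = 5 := by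
      rw [show (1215 : ℕ) = 3 ^ 5 * 5 by norm_num, Nat.factorization_mul (by norm_num) (by norm_num),
        Finsupp.add_apply, Nat.prime_three.factorization_pow, Finsupp.single_eq_same,
        Nat.factorization_eq_zero_of_not_dvd (by norm_num)]
    rw [h2] at h1
    exact h1.trans (by norm_num)
  have hKidx : K.index = 2 := by
    have h1 := card_mul_index K
    rw [hKc, hC] at h1
    omega
  -- `x` is in `K`
  have hxK : (⟨x, hxC⟩ : C) ∈ K := by
    have h1 : (⟨x, hxC⟩ : C) ^ 2 ∈ K := by
      have := Subgroup.sq_mem_of_index_two hKidx (⟨x, hxC⟩ : C)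
      exact this
    have h2 : (⟨x, hxC⟩ : C) = ((⟨x, hxC⟩ : C) ^ 2) ^ 3 := by
      apply Subtype.ext
      show x = (x ^ 2) ^ 3
      rw [← pow_mul, show 2 * 3 = 5 + 1 by norm_num, pow_succ, ← hx, pow_orderOf_eq_one, one_mul]
    rw [h2]
    exact pow_mem h1 3
  have hTn : (T : Subgroup K).Normal := by
    rw [← normalizer_eq_top_iff]
    apply eq_top_of_card_eq
    rw [hKc]
    apply Nat.dvd_antisymm
    · rw [← hKc]; exact card_subgroup_dvd_card _
    · have h1 : 243 ∣ Nat.card (normalizer ((T : Subgroup K) : Set K)) := by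
        rw [← hT]; exact card_dvd_of_le le_normalizer
      have h2 : 5 ∣ Nat.card (normalizer ((T : Subgroup K) : Set K)) := by
        have h3 : (⟨⟨x, hxC⟩, hxK⟩ : K) ∈ normalizer ((T : Subgroup K) : Set K) := by
          apply centralizer_le_normalizer
          rw [mem_centralizer_iff]
          intro y _
          apply Subtype.ext
          apply Subtype.ext
          exact mem_centralizer_singleton_iff.1 (y : C).2
        have h4 := Subgroup.orderOf_dvd_natCard _ h3
        rw [Subgroup.orderOf_mk, Subgroup.orderOf_mk, hx] at h4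
        exact h4
      exact Nat.Coprime.mul_dvd_of_dvd_of_dvd (by norm_num : Nat.Coprime 243 5) h1 h2
  have hTch : (T : Subgroup K).Characteristic := Sylow.characteristic_of_normal T hTn
  -- in `G`
  set A : Subgroup G := ((T : Subgroup K).map K.subtype).map C.subtype with hA
  have hAc : Nat.card A = 243 := by
    rw [hA, card_map_of_injective (subtype_injective _), card_map_of_injective (subtype_injective _), hT]
  have htA : ∀ a ∈ A, t * a * t⁻¹ ∈ A := by
    rintro _ ⟨_, ⟨y, hy, rfl⟩, rfl⟩
    have hKn : K.Normal := inferInstance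
    have h1 : (T : Subgroup K).map (MulAut.conjNormal (⟨t, htC⟩ : C) : MulAut K).toMonoidHom = (T : Subgroup K) :=
      (characteristic_iff_map_eq.1 hTch) _
    have h2 : (MulAut.conjNormal (⟨t, htC⟩ : C) : MulAut K) y ∈ (T : Subgroup K) := by
      rw [← h1]
      exact ⟨y, hy, rfl⟩
    exact ⟨_, ⟨_, h2, rfl⟩, rfl⟩
  have hAC : A ≤ centralizer ({x} : Set G) := by
    rintro _ ⟨y, -, rfl⟩
    exact y.2
  have htt : t * t = 1 := by rw [← pow_two, ← ht, pow_orderOf_eq_one]
  have hti : t⁻¹ = t := inv_eq_of_mul_eq_one_right htt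
  -- conjugation by `t`
  let φ : A →* A := {
    toFun := fun a => ⟨t * a * t⁻¹, htA a a.2⟩
    map_one' := Subtype.ext (by show t * 1 * t⁻¹ = 1; group)
    map_mul' := fun a b => Subtype.ext (by show t * (a * b) * t⁻¹ = (t * a * t⁻¹) * (t * b * t⁻¹); group) }
  have hφ : MonoidHom.FixedPointFree φ := by
    intro a ha
    have h1 : t * a * t⁻¹ = a := congrArg Subtype.val ha
    have h2 : (a : G) ∈ centralizer ({t} : Set G) ⊓ centralizer ({x} : Set G) := by
      refine mem_inf.2 ⟨?_, hAC a.2⟩
      rw [mem_centralizer_singleton_iff]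
      calc (a : G) * t = t * a * t⁻¹ * t := by rw [h1]
        _ = t * a := by group
    have h3 := Subgroup.orderOf_dvd_natCard _ h2
    rw [card_ct h hx ht hc] at h3
    have h4 := Subgroup.orderOf_dvd_natCard _ a.2
    rw [hAc] at h4
    have h5 : orderOf (a : G) ∣ Nat.gcd 10 243 := Nat.dvd_gcd h3 h4
    have h6 : orderOf (a : G) = 1 := Nat.dvd_one.1 (by simpa using h5)
    exact Subtype.ext (orderOf_eq_one_iff.1 h6)
  have hinv : Function.Involutive φ := by
    intro a
    apply Subtype.ext
    show t * (t * a * t⁻¹) * t⁻¹ = a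
    rw [hti]
    calc t * (t * a * t) * t = (t * t) * a * (t * t) := by group
      _ = a := by rw [htt]; group
  have hcomm := hφ.commute_all_of_involutive hinv
  -- the element of order 3 with centralizer of order 1080
  obtain ⟨c, hc3, -, hcc⟩ := CpAutJThree.exc h
  have hcardG : Nat.card G = 50232960 := card h
  have hAidx : ¬ 3 ∣ A.index := by
    intro hd
    have h1 := card_mul_index A
    rw [hAc, hcardG] at h1
    have h2 : A.index = 206720 := by omega
    rw [h2] at hd
    norm_num at hd
  have hAp : IsPGroup 3 A := IsPGroup.of_card (n := 5) (by rw [hAc]; norm_num)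
  have hcp : IsPGroup 3 (zpowers c) := IsPGroup.of_card (n := 1) (by rw [Nat.card_zpowers, hc3, pow_one])
  obtain ⟨S, hS⟩ := hcp.exists_le_sylow
  obtain ⟨g, hg⟩ := MulAction.exists_smul_eq G S (hAp.toSylow hAidx)
  have h1 : g * c * g⁻¹ ∈ A := by
    have h2 : ((g • S : Sylow 3 G) : Subgroup G) = A := by rw [hg]; rfl
    rw [← h2, Sylow.coe_subgroup_smul]
    exact ⟨c, hS (mem_zpowers c), rfl⟩
  have h2 : A ≤ centralizer ({g * c * g⁻¹} : Set G) := by
    intro a ha
    rw [mem_centralizer_singleton_iff]
    exact congrArg Subtype.val (hcomm ⟨a, ha⟩ ⟨_, h1⟩).eq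
  have h3 := card_dvd_of_le h2
  have h4 : Nat.card (centralizer ({g * c * g⁻¹} : Set G)) = 1080 := by
    rw [← hcc]
    refine (Nat.card_congr (Equiv.subtypeEquiv (MulAut.conj g).toEquiv fun y => ?_)).symm
    show y ∈ centralizer ({c} : Set G) ↔ g * y * g⁻¹ ∈ centralizer ({g * c * g⁻¹} : Set G)
    rw [mem_centralizer_singleton_iff, mem_centralizer_singleton_iff]
    have e1 : g * y * g⁻¹ * (g * c * g⁻¹) = g * (y * c) * g⁻¹ := by group
    have e2 : g * c * g⁻¹ * (g * y * g⁻¹) = g * (c * y) * g⁻¹ := by group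
    rw [e1, e2]
    constructor
    · intro h; rw [h]
    · intro h
      have := congrArg (fun z => g⁻¹ * z * g) h
      simpa [mul_assoc] using this
  rw [hAc, h4] at h3
  norm_num at h3

theorem n5 (h : IsoJ3 G) (R : Subgroup G) (hR : Nat.card R = 5) :
    Nat.card (normalizer (R : Set G)) ∈ [60, 360] := by
  obtain ⟨x, hx, hRx⟩ := eq_zpowers' (by norm_num) hR
  have h1 := not_2430 h hx
  rw [← cent_zpowers', ← hRx] at h1
  rcases cn5 h hR with h2 | h2 | h2
  · rw [h2.2]; decide
  · rw [h2.2]; decide
  · exact absurd h2.1 h1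

theorem row5 (B : Base) (h : IsoJ3 G) : FprRow 6 1 5 G := by
  have := fin h
  refine row_of_small (ctx B h) (D := ⟨5, [], [], [360], []⟩) (K := 432) (lb := 0) (allow := [323]) (bd := 0)
    ⟨by decide +kernel, by simp, by simp, ?_, by simp⟩ (by decide +kernel) lb_zero ?_
  · intro N hN R hR
    rw [List.mem_singleton.1 hN]
    have := n5 h R hR
    simp only [List.mem_cons, List.not_mem_nil, or_false] at this
    omega
  · intro H _ hH
    rw [List.mem_singleton] at hH
    exact fix_of_exactB (by norm_num) (by rw [card h]; decide) (by rw [card h]; decide) (LN := [60, 360])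
      (fun R hR => n5 h R hR) (by rw [hH]; decide +kernel)

/-- **the rows of `J3`** -/
theorem row (B : Base) (h : IsoJ3 G) {p : ℕ} (hp : p.Prime) (hd : p ∣ Nat.card G) : FprRow (p + 1) 1 p G := by
  have h1 := valid_mem v_j3 hp (by rw [← card h]; exact hd)
  simp only [l_j3, List.map_cons, List.map_nil, List.mem_cons, List.not_mem_nil, or_false] at h1
  rcases h1 with rfl | rfl | rfl | rfl | rfl
  · exact row2 B h
  · exact row3 B h
  · exact row5 B h
  · exact row17 B h
  · exact row19 B h

universe u in
theorem rowIso (B : Base) {S : Type u} [Group S] (h : Cfsg.Spor.IsoJ3 S) {p : ℕ} (hp : p.Prime)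
    (hd : p ∣ Nat.card S) : FprRow (p + 1) 1 p S := by
  obtain ⟨F, _, _, ω, hF, hω, ⟨e⟩⟩ := h
  have hI : Spor.IsoJ3 (Spor.J3 F ω) := ⟨F, inferInstance, inferInstance, ω, hF, hω, ⟨MulEquiv.refl _⟩⟩
  have := fin hI
  exact (row B hI hp (by rw [← Nat.card_congr e.toEquiv]; exact hd)).of_mulEquiv hp e.symm

end Cfsg.Agent.H715.Fpr.J3

private theorem dce_a9d4cf4c27c9 : _root_.True := by
  try have : _root_.True := by simp only [_root_.Cfsg.Agent.H715.Fpr.J3.loc.eq_1]
  try have : _root_.True := by simp only [_root_.Cfsg.Agent.H940.Eng.D.l_j3.eq_1]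
  exact _root_.True.intro
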