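import Cfsg.Agent.H147.Fpr.Gen
import Cfsg.Agent.H452.FprCyc
import Cfsg.Agent.H715.Fpr.Row4_m3
import Cfsg.Agent.H940.EngData
import Cfsg.Agent.J2Type.ThreeF
import Cfsg.Agent.KFacts.J2.SheetX
import Cfsg.Agent.H316.RedPerf_m3
import Cfsg.Agent.OddHalf.NI.Ex.RowM12_m3
import Cfsg.Agent.S1620
import Cfsg.Agent.Prune
set_option linter.all false
prune_inst 0x7f00000000000000000000000000000000000000000000000000000000000000000000000000000000000000000000000000000000000000000000000000000000000000000000000000000000000000003fffffffffffffffffffffffffffbeffbdffffffff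
open scoped Cfsg.Agent.FastGrp

-- part: H715/Fpr/Triple
section
/-!
# Fixed points of `5`-elements in a group generated by `x, y` with `x, y, x y` of order 5 (helper715)
-/

set_option autoImplicit false

namespace Cfsg.Agent.H715.Fpr

open Subgroup MulAction Cfsg.Agent.H409

universe u

/-- the number of fixed points of a `p`-element modulo `p` -/
theorem fix_modEq_pow {S : Type u} [Group S] [Finite S] {p : ℕ} (hp : p.Prime) (H : Subgroup S) {x : S} {k : ℕ}
    (hx : orderOf x = p ^ k) : Nat.card (fixedBy (S ⧸ H) x) ≡ H.index [MOD p] := by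
  have hfp := Fact.mk hp
  have hP : IsPGroup p (zpowers x) := IsPGroup.of_card (n := k) (by rw [Nat.card_zpowers, hx])
  have h1 := hP.card_modEq_card_fixedPoints (S ⧸ H)
  have h2 : fixedPoints (zpowers x) (S ⧸ H) = fixedBy (S ⧸ H) x := by
    ext w
    constructor
    · intro h
      exact h ⟨x, mem_zpowers x⟩
    · rintro h ⟨y, hy⟩
      have h3 : zpowers x ≤ stabilizer S w := zpowers_le.2 h
      exact h3 hy
  rw [h2] at h1
  exact h1.symm

/-- **`(5, 5, 5)`-generation** -/
theorem fix_of_triple_five {S : Type u} [Group S] [Finite S] {x y : S} (hx : orderOf x = 5) (hy : orderOf y = 5)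
    (hxy : orderOf (x * y) = 5) (hgen : closure {x, y} = ⊤) {H : Subgroup S}
    (hmod : H.index % 6 ≠ 1) :
    ∃ z : S, (∃ k : ℕ, orderOf z = 5 ^ k) ∧ (5 + 1) * Nat.card (fixedBy (S ⧸ H) z) ≤ 1 * Nat.card (S ⧸ H) := by
  have hp : Nat.Prime 5 := by norm_num
  by_contra hcon
  push Not at hcon
  have := Fintype.ofFinite S
  classical
  obtain ⟨z, hz, hmin⟩ := Finset.exists_min_image
    (Finset.univ.filter fun z : S => (∃ k : ℕ, orderOf z = 5 ^ k) ∧ z ≠ 1)
    (fun z => Nat.card (fixedBy (S ⧸ H) z)) ⟨x, by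
      simp only [Finset.mem_filter, Finset.mem_univ, true_and]
      refine ⟨⟨1, by rw [pow_one]; exact hx⟩, ?_⟩
      rintro rfl
      rw [orderOf_one] at hx
      norm_num at hx⟩
  simp only [Finset.mem_filter, Finset.mem_univ, true_and] at hz hmin
  have hxy' : orderOf (x * y)⁻¹ = 5 := by rw [orderOf_inv, hxy]
  have hgen' : closure {w | w ∈ [x, y, (x * y)⁻¹]} = (⊤ : Subgroup S) := by
    rw [eq_top_iff, ← hgen, closure_le]
    rintro w hw
    apply Subgroup.subset_closure
    rcases hw with rfl | hw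
    · exact List.mem_cons_self
    · rw [Set.mem_singleton_iff] at hw
      subst hw
      exact List.mem_cons_of_mem _ List.mem_cons_self
  have h1 := Cfsg.Agent.H398.FPR.T4 (Ω := S ⧸ H) (p := 5) (l := [x, y, (x * y)⁻¹]) (by
    intro w hw
    simp only [List.mem_cons, List.not_mem_nil, or_false] at hw
    rcases hw with rfl | rfl | rfl
    · exact ⟨1, by rw [hx, pow_one]⟩
    · exact ⟨1, by rw [hy, pow_one]⟩
    · exact ⟨1, by rw [hxy', pow_one]⟩) hp (by simp) hgen' (m := Nat.card (fixedBy (S ⧸ H) z))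
    (fun w hw hw1 => hmin w ⟨hw, hw1⟩)
  simp only [List.map_cons, List.map_nil, List.sum_cons, List.sum_nil, hx, hy, hxy'] at h1
  obtain ⟨k, hk⟩ := hz.1
  have h2 := fix_modEq_pow hp H hk
  have h3 := hcon z hz.1
  have hcard : Nat.card (S ⧸ H) = H.index := rfl
  rw [hcard] at h1 h3
  set n := H.index
  set m := Nat.card (fixedBy (S ⧸ H) z)
  have h4 : (12 * m : ℚ) ≤ 2 * n + 10 := by
    have : (((5 : ℕ) : ℚ)) = 5 := by norm_num
    rw [this] at h1
    linarith
  have h5 : 12 * m ≤ 2 * n + 10 := by exact_mod_cast h4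
  have h6 : m % 5 = n % 5 := h2
  omega

end Cfsg.Agent.H715.Fpr
end

-- part: H715/Fpr/J2
section
/-!
# Fixed point ratios: `J2` (helper715)
-/

set_option autoImplicit false

namespace Cfsg.Agent.H715.Fpr.J2

open Subgroup MulAction Cfsg.Agent.H409 Cfsg.Agent.OrdDiv Cfsg.Agent.H940.Eng Cfsg.Agent.H940.Eng.D Cfsg.Spor

variable {G : Type} [Group G]

theorem simple (h : IsoJ2 G) : IsSimpleGroup G := by
  obtain ⟨e⟩ := h
  exact (MulEquiv.isSimpleGroup_congr e).2 Cfsg.Agent.S1620.result.1

theorem fus (h : IsoJ2 G) [Finite G] : ∃ t u : G, J2Type.Base.Fus t u := by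
  obtain ⟨t, u, Q, v, ρ, D⟩ := KFacts.J2.Facts.exists_dat_of h
  exact ⟨t, u, D.F⟩

theorem finite_J2 : Finite Spor.J2 := by
  obtain ⟨ψ⟩ := Cfsg.Agent.J2.HundredGens.J2_iso Cfsg.Agent.S1619.result.2.2.2
  exact Finite.of_equiv _ ψ.symm.toEquiv

theorem fin (h : IsoJ2 G) : Finite G := by
  obtain ⟨e⟩ := h
  have := finite_J2
  exact Finite.of_equiv _ e.symm.toEquiv

theorem card (h : IsoJ2 G) : Nat.card G = n_j2 := by
  have := fin h
  obtain ⟨t, u, F⟩ := fus h
  exact J2Type.Order.card_of_fus F

theorem cn7 (h : IsoJ2 G) {R : Subgroup G} (hR : Nat.card R = 7) :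
    Nat.card (centralizer (R : Set G)) = 7 ∧ Nat.card (normalizer (R : Set G)) = 42 := by
  have := fin h
  have f7 : Fact (Nat.Prime 7) := ⟨by norm_num⟩
  obtain ⟨t, u, F⟩ := fus h
  obtain ⟨S, hS⟩ := H904.SylOne.exists_sylow hR (by rw [card h]; decide)
  obtain ⟨h1, h2, -⟩ := J2Type.ThreeF.sylow_seven F S
  rw [hS] at h1 h2
  exact ⟨by rw [h1, hR], h2⟩

def loc : List LD := [⟨7, 7, [(2, 1), (3, 1), (7, 1)]⟩]

theorem ctx (B : Base) (h : IsoJ2 G) : Ctx G l_j2 n_j2 o_j2 loc where
  fin := fin h
  simple := simple h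
  card := card h
  val := v_j2
  nodup := nd_j2
  ords := ords_j2 B
  loc := by
    have := fin h
    have := simple h
    intro ld hld
    simp only [loc, List.mem_cons, List.not_mem_nil, or_false] at hld
    subst hld
    exact loc_of_eq (card h) (by decide +kernel) (by decide +kernel) (by decide +kernel) fun R hR => by
      obtain ⟨h1, h2⟩ := cn7 h hR
      rw [h1, h2]; decide

/-- every proper subgroup has index at least 32 -/
theorem lb (h : IsoJ2 G) (M : Subgroup G) (hM : M ≠ ⊤) : 32 ≤ M.index := by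
  have := fin h
  have := simple h
  obtain ⟨t, u, Q, v, ρ, D⟩ := KFacts.J2.Facts.exists_dat_of h
  have hX := KFacts.J2.SheetX.sheetX D
  have hS : H394.SqSheet.Sh t (centralizer ({t} : Set G)) (Q.map (centralizer ({t} : Set G)).subtype) := {
    zz := hX.zz
    z1 := hX.z1
    zR := hX.zR
    RP := hX.RP
    cen := hX.cen
    perf := hX.perf
    R2 := hX.R2
    Rn := hX.Rn
    Rmin := hX.Rmin
    Rna := hX.Rna }
  have hc : Nat.card (Q.map (centralizer ({t} : Set G)).subtype) = 32 := by
    rw [card_map_of_injective (Subtype.val_injective)]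
    exact D.cardQ
  obtain ⟨x, hx⟩ := H394.SqSporBase.exists_moved hM hX.z1
  rcases H394.SqSheet.orbit_bound hS x hx with h3 | ⟨A, hA1, hA2, r, h3, h4⟩
  · rw [hc] at h3
    exact h3
  · have h5 : Nat.card (G ⧸ M) = M.index := rfl
    rw [h5] at h3
    rw [hc] at h4
    have h6 := H394.SqSheet.five_le_relIndex hX.perf hA2
    have h7 : 8 ≤ r := by
      by_contra hlt
      have : r * r ≤ 7 * 7 := Nat.mul_le_mul (by omega) (by omega)
      omega
    have h8 : 5 * 8 ≤ A.relIndex (centralizer ({t} : Set G)) * r := Nat.mul_le_mul h6 h7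
    omega

theorem row2 (B : Base) (h : IsoJ2 G) : FprRow 3 1 2 G := by
  have := fin h
  exact row_of_act2 (ctx B h) (q := 7) (N := 42) (by decide +kernel) (by decide +kernel) (by decide +kernel)
    (acts_of (card h) (by decide +kernel) (by decide +kernel) (by decide +kernel) (fun _ hR => cn7 h hR) 1
      (by decide +kernel))
    (fun _ hR => (cn7 h hR).2.le) 27 32 (lb h) 0 (by decide +kernel)

theorem row3 (B : Base) (h : IsoJ2 G) : FprRow 4 1 3 G := by
  have := fin h
  exact row_of_act2 (ctx B h) (q := 7) (N := 42) (by decide +kernel) (by decide +kernel) (by decide +kernel)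
    (acts_of (card h) (by decide +kernel) (by decide +kernel) (by decide +kernel) (fun _ hR => cn7 h hR) 1
      (by decide +kernel))
    (fun _ hR => (cn7 h hR).2.le) 48 32 (lb h) 0 (by decide +kernel)

theorem row7 (B : Base) (h : IsoJ2 G) : FprRow 8 1 7 G :=
  row_of_norm2 (ctx B h) (by decide +kernel) (fun _ hR => (cn7 h hR).2.le) 48 32 (lb h) 0 (by decide +kernel)

theorem idx_mod (h : IsoJ2 G) {M : Subgroup G} (hM : M ≠ ⊤) (h5 : ¬ 5 ∣ M.index) : M.index % 6 ≠ 1 := by
  have := fin h
  intro h6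
  have h1 := lb h M hM
  have h2 : M.index ∣ n_j2 := by rw [← card h]; exact index_dvd_card M
  have c2 : ¬ 2 ∣ M.index := by omega
  have c3 : ¬ 3 ∣ M.index := by omega
  have e : n_j2 = 2 ^ 7 * (3 ^ 3 * (5 ^ 2 * 7)) := by decide
  rw [e] at h2
  have h3 := (((Nat.Prime.coprime_iff_not_dvd Nat.prime_two).2 c2).symm.pow_right 7).dvd_of_dvd_mul_left h2
  have h4 := (((Nat.Prime.coprime_iff_not_dvd Nat.prime_three).2 c3).symm.pow_right 3).dvd_of_dvd_mul_left h3
  have h7 := (((Nat.Prime.coprime_iff_not_dvd Nat.prime_five).2 h5).symm.pow_right 2).dvd_of_dvd_mul_left h4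
  have := Nat.le_of_dvd (by norm_num) h7
  omega

/-! ### the prime 5: a `(5, 5, 5)`-triple -/

open Equiv Cfsg.Agent.SporadicA.PermTab Cfsg.Agent.SporadicA.PermRank3 Cfsg.Agent.SporadicA.J2Data
open Cfsg.Agent.SporadicA.J2Hundred (inAll' sub)

def tX : Nat := 0x7017c148500ae1040a05e03200c0e81a06c0a0028510721082201c0120d0110530600ec1d02f06202c248060b61142b0480421340c01702c1481902e0980901183307a0dc2a82a0ba0fc1300703e0002505c0020540d86207c0d431846058080138020b413c1e04e086184020400560942a02d03c1643004b01e11c04058026044050100240340700c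
def tXi : Nat := 0x420900b00d0c41701782808606c070080be104188110980e82a0600340601f0370180a4228400140802105102e1482f01405c08c198190941242986306415c1104e0680e42384b0900e00801f0260c03085603a0b40903606a1341f81e05603c2c85004a1602d83d0780ec1305d00e00c030040160040100008c014278090581102a8150b40701382a
def tY : Nat := 0xc00f81f8230561581d83a0aa0740a02f0481140b8630ae0a40c84f09c1102581f04006c2504c09a16c0b01a0840dc1e86108210c2005d06a0e41c0340c40f01b05c08c0882f8470641501305e03c054150510501202c05905c0941883005a084248270b41400e0520660b00c0530140300980f010040070110000480200d0160040480600e00c02802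
def tYi : Nat := 0xa80dc200630620b01e03408c06c120250a61782d82e0280601401a0a013c2384809a1240e8260600cc2b04e07c10c1f83d0c2188208360ba1701d0390840d41d83802e0bc108200b008c0f8160be0a4290270380b4110570c00c80f04b0980ac2d019094110288150aa114150590220280600e0200340401200e04c0280f006010008090040000300b
/-- `x y` -/
def tP : Nat := 0xa01341083e03e0a00b05200a09c2005d0c41242183806c1281e0090680181802c08c1681d8530440643084f08a1300c0290ac16c240140460c8170330be05c1205e0160d42b83106e1440a841040010000440b80bc0d01d07e06c2a82a04c18c1d0010060700104207a01c2703908e12c1581e0b00b42c8540180940806001e038040110260480500d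
def tPi : Nat := 0x3c15c2280806e0d02c02707c1280680f0620fc1080c09017017063088054310420241482b03d02612c218280aa060160590461800b8510920740a05405e14c1904f0700e81804d04c0e40704c0220802005e0b407c0503507611c3082b0be0401201a0440942304106c1741683c0060080200900e0180000b0660042800502c1382d82a0360640e029
/-- `x y⁻¹` -/
def tR : Nat := 0xa2130240380aa01c0b8330161683101b0721040c83f0801382e04f0380241882f0440e8138150540f41403409a16c1081805217c2b0240281782903208a08c0b02e086174318460340f8160610ae128210010040981a8360a00dc100300a607c0183c0760182200400a1240001d0a811c2585905a1802c0250260ac0501e0240400700801a0300880f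
def tRi : Nat := 0x621641600e07c0e8190510841680800d0560f42f81303e0e4318230a0148218620220a80b0610240c01b8190660a42b0530a80b82301c0361282b860044090128440b80e0268200980d00782d01411c1f8450920980603c06c12c2082103c0200a04f0b00bc2a8400ba0d42403b01601c00806000014018020b6024270040bc0680b81803a09c14015
/-- orbit certificate -/
def cK : Nat := 0x600c40c0380620e018029062080188400700c4148390700641c8300620a0108290300c014031052040148410700c0188210720a014028050080188290600c41c0200320e0180100701001c018050020088300720c0180380600e41c018040080188280500e018021042080148280600a41c8310500e0200200120c0208480221001c03803208420000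

theorem iX : chkInv 100 tX tXi = true := by decide +kernel
theorem iY : chkInv 100 tY tYi = true := by decide +kernel
theorem iP : chkInv 100 tP tPi = true := by decide +kernel
theorem iR : chkInv 100 tR tRi = true := by decide +kernel

noncomputable def px : Perm (Fin 100) := mkPerm tX tXi iX
noncomputable def py : Perm (Fin 100) := mkPerm tY tYi iY

theorem pow5 {P Q : ℕ} (h : chkInv 100 P Q = true)
    (hc : allB (fun i => Nat.beq (lk P (lk P (lk P (lk P (lk P i))))) i) 100 = true)
    (h0 : Nat.beq (lk P 0) 0 = false) : orderOf (mkPerm (n := 100) P Q h) = 5 := by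
  have f5 : Fact (Nat.Prime 5) := ⟨by norm_num⟩
  apply orderOf_eq_prime
  · ext i
    have h1 := Nat.eq_of_beq_eq_true ((allB_iff _ _).1 hc i i.2)
    exact h1
  · intro h1
    have h2 := congrArg (fun g : Perm (Fin 100) => (g 0 : ℕ)) h1
    have h3 : lk P 0 = 0 := h2
    rw [h3] at h0
    exact absurd h0 (by decide)

theorem pow7 {P Q : ℕ} (h : chkInv 100 P Q = true)
    (hc : allB (fun i => Nat.beq (lk P (lk P (lk P (lk P (lk P (lk P (lk P i))))))) i) 100 = true)
    (h0 : Nat.beq (lk P 0) 0 = false) : orderOf (mkPerm (n := 100) P Q h) = 7 := by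
  have f7 : Fact (Nat.Prime 7) := ⟨by norm_num⟩
  apply orderOf_eq_prime
  · ext i
    have h1 := Nat.eq_of_beq_eq_true ((allB_iff _ _).1 hc i i.2)
    exact h1
  · intro h1
    have h2 := congrArg (fun g : Perm (Fin 100) => (g 0 : ℕ)) h1
    have h3 : lk P 0 = 0 := h2
    rw [h3] at h0
    exact absurd h0 (by decide)

theorem px_order : orderOf px = 5 := pow5 iX (by decide +kernel) (by decide +kernel)
theorem py_order : orderOf py = 5 := pow5 iY (by decide +kernel) (by decide +kernel)

theorem mul_eq : px * py = mkPerm tP tPi iP := by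
  ext i
  have h : allB (fun i => Nat.beq (lk tX (lk tY i)) (lk tP i)) 100 = true := by decide +kernel
  exact Nat.eq_of_beq_eq_true ((allB_iff _ _).1 h i i.2)

theorem mul_inv_eq : px * py⁻¹ = mkPerm tR tRi iR := by
  ext i
  have h : allB (fun i => Nat.beq (lk tX (lk tYi i)) (lk tR i)) 100 = true := by decide +kernel
  exact Nat.eq_of_beq_eq_true ((allB_iff _ _).1 h i i.2)

theorem pxy_order : orderOf (px * py) = 5 := by
  rw [mul_eq]; exact pow5 iP (by decide +kernel) (by decide +kernel)

theorem pr_order : orderOf (px * py⁻¹) = 7 := by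
  rw [mul_inv_eq]; exact pow7 iR (by decide +kernel) (by decide +kernel)

abbrev H : Subgroup (Perm (Fin 100)) := Cfsg.Agent.SporadicA.J2Hundred.G

theorem eq_of_val {g g' : Perm (Fin 100)} (h : ∀ i : Fin 100, (g i : ℕ) = (g' i : ℕ)) : g = g' := by
  ext i; exact h i

theorem px_mem : px ∈ H := by
  obtain ⟨g, hg, hg'⟩ : InG H tX := InG.word (inAll' (L := [tD, tC, tD, tB, tC, tD, tE, tB]) (by decide +kernel))
    (by decide +kernel)
  have : px = g := eq_of_val fun i => (hg' i).symm
  rw [this]; exact hg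

theorem py_mem : py ∈ H := by
  obtain ⟨g, hg, hg'⟩ : InG H tY := InG.word (inAll' (L := [tA, tB, tC]) (by decide +kernel)) (by decide +kernel)
  have : py = g := eq_of_val fun i => (hg' i).symm
  rw [this]; exact hg

/-- `⟨x, y⟩` is transitive -/
theorem dvd_hundred {K : Subgroup (Perm (Fin 100))} (hx : px ∈ K) (hy : py ∈ K) : 100 ∣ Nat.card K := by
  have h0 : InG K tX := ⟨px, hx, fun _ => rfl⟩
  have h1 : InG K tY := ⟨py, hy, fun _ => rfl⟩
  have hL : ∀ P ∈ [tX, tY], InG K P := by
    intro P hP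
    simp only [List.mem_cons, List.not_mem_nil, or_false] at hP
    rcases hP with rfl | rfl
    · exact h0
    · exact h1
  have hchk : chkOrb 100 (0 : Fin 100) tX [tX, tY] cK = true := by decide +kernel
  have hall : allB (fun i => cond (Nat.beq (lk cK i) 2047) false true) 100 = true := by decide +kernel
  have horb : ∀ v : Fin 100, ∃ g ∈ K, g 0 = v := by
    intro v
    refine orb_of_chk h0 hL hchk v ?_
    intro he
    have h2 := (allB_iff _ _).1 hall v v.2
    rw [he] at h2
    exact absurd h2 (by decide)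
  have h2 := card_eq_mul_card_ps K (0 : Fin 100)
  have h3 : MulAction.orbit K (0 : Fin 100) = Set.univ := by
    rw [Set.eq_univ_iff_forall]
    intro v
    obtain ⟨g, hg, hgv⟩ := horb v
    exact ⟨⟨g, hg⟩, hgv⟩
  rw [h3, Set.ncard_univ, Nat.card_eq_fintype_card (α := Fin 100), Fintype.card_fin] at h2
  exact ⟨_, h2⟩

theorem iso : IsoJ2 H := by
  obtain ⟨ψ⟩ := Cfsg.Agent.J2.HundredGens.J2_iso Cfsg.Agent.S1619.result.2.2.2
  exact ⟨ψ.symm⟩

theorem gen (B : Base) : closure {(⟨px, px_mem⟩ : H), ⟨py, py_mem⟩} = ⊤ := by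
  set K : Subgroup H := closure {(⟨px, px_mem⟩ : H), ⟨py, py_mem⟩} with hK
  have hx : (⟨px, px_mem⟩ : H) ∈ K := Subgroup.subset_closure (Or.inl rfl)
  have hy : (⟨py, py_mem⟩ : H) ∈ K := Subgroup.subset_closure (Or.inr rfl)
  have h100 : 100 ∣ Nat.card K := by
    have h1 := dvd_hundred (K := K.map H.subtype) ⟨_, hx, rfl⟩ ⟨_, hy, rfl⟩
    rwa [card_map_of_injective (subtype_injective _)] at h1
  have h7 : 7 ∣ Nat.card K := by
    have h1 := Subgroup.orderOf_dvd_natCard _ (mul_mem hx (inv_mem hy))
    have h2 : orderOf ((⟨px, px_mem⟩ : H) * (⟨py, py_mem⟩ : H)⁻¹) = 7 := by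
      rw [← Subgroup.orderOf_coe]
      exact pr_order
    rwa [h2] at h1
  rcases (ctx B iso).over (a := 100) (b := 7) [(2, 5), (3, 3)] [] [] 0 (by decide +kernel) (H := K) h100 h7
    (fun p hp => absurd hp List.not_mem_nil) with h | h
  · exact h
  · exact absurd h List.not_mem_nil

theorem row5' (B : Base) : FprRow 6 1 5 H := by
  have := fin iso
  have f5 : Fact (Nat.Prime 5) := ⟨by norm_num⟩
  have hx : orderOf (⟨px, px_mem⟩ : H) = 5 := (Subgroup.orderOf_mk _ _).trans px_order
  have hy : orderOf (⟨py, py_mem⟩ : H) = 5 := (Subgroup.orderOf_mk _ _).trans py_order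
  have hxy : orderOf ((⟨px, px_mem⟩ : H) * ⟨py, py_mem⟩) = 5 := (Subgroup.orderOf_mk _ _).trans pxy_order
  have hg := gen B
  have hc : ¬ 5 ^ 3 ∣ Nat.card H := by rw [card iso]; decide
  exact FprRow.of_index_small (p := 5) hc fun M hM h5 =>
    fix_of_triple_five hx hy hxy hg (idx_mod iso hM.1 h5)

theorem row5 (B : Base) (h : IsoJ2 G) : FprRow 6 1 5 G := by
  obtain ⟨e⟩ := h
  obtain ⟨f⟩ := iso
  have := fin iso
  exact (row5' B).of_mulEquiv (by norm_num) (f.trans e.symm)

/-- **the rows of `J2`** -/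
theorem row (B : Base) (h : IsoJ2 G) {p : ℕ} (hp : p.Prime) (hd : p ∣ Nat.card G) : FprRow (p + 1) 1 p G := by
  have h1 := valid_mem v_j2 hp (by rw [← card h]; exact hd)
  simp only [l_j2, List.map_cons, List.map_nil, List.mem_cons, List.not_mem_nil, or_false] at h1
  rcases h1 with rfl | rfl | rfl | rfl
  · exact row2 B h
  · exact row3 B h
  · exact row5 B h
  · exact row7 B h

universe u in
theorem rowIso (B : Base) {S : Type u} [Group S] (h : Cfsg.Spor.IsoJ2 S) {p : ℕ} (hp : p.Prime)
    (hd : p ∣ Nat.card S) : FprRow (p + 1) 1 p S := by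
  obtain ⟨e⟩ := h
  have hI : Spor.IsoJ2 Spor.J2 := ⟨MulEquiv.refl _⟩
  have := fin hI
  exact (row B hI hp (by rw [← Nat.card_congr e.toEquiv]; exact hd)).of_mulEquiv hp e.symm

end Cfsg.Agent.H715.Fpr.J2
end

private theorem dce_0e547999c6f3 : _root_.True := by
  try have : _root_.True := by simp only [_root_.Cfsg.Agent.H715.Fpr.J2.loc.eq_1]
  try have : _root_.True := by simp only [_root_.Cfsg.Agent.H940.Eng.D.l_j2.eq_1]
  exact _root_.True.intro
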