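import Cfsg.Prelude.Def_Spor_Mathieu
import Cfsg.Agent.H994.TwoGen.Suz
import Cfsg.Agent.H994.TwoGen.Chain
import Cfsg.Agent.MTwelveType.SylowModel
import Cfsg.Agent.J4.M24Hom
import Cfsg.Agent.H807.El.Mathieu
import Cfsg.Agent.Prune
set_option linter.all false
prune_inst 0x7f00000000000000000000000000000000000000000000000000000000000000000000000000000000000000000000000000000000000000000000000000000000000000000000000000000000000000003fffffffffffffffffffffffffffbeffbdffffffff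
open scoped Cfsg.Agent.FastGrp

/-!
# A generating triple of `M12` of orders 2, 3, 11 (helper715)
-/

set_option autoImplicit false

namespace Cfsg.Agent.H715.Fpr.GenM12

open Cfsg Cfsg.Agent.H994.TwoGen Cfsg.Agent.H994.TwoGen.Chain
open Cfsg.Agent.J4.M24Hom (fn)

/-- table of `X` -/
def tx : List ℕ := [8, 1, 2, 12, 6, 5, 4, 17, 0, 9, 21, 15, 3, 13, 14, 11, 18, 7, 16, 23, 20, 10, 22, 19]
/-- table of `X⁻¹` -/
def txi : List ℕ := [8, 1, 2, 12, 6, 5, 4, 17, 0, 9, 21, 15, 3, 13, 14, 11, 18, 7, 16, 23, 20, 10, 22, 19]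
/-- table of `Y` -/
def ty : List ℕ := [3, 8, 16, 12, 18, 15, 1, 10, 6, 4, 21, 14, 0, 2, 20, 19, 13, 22, 9, 5, 11, 7, 23, 17]
/-- table of `Y⁻¹` -/
def tyi : List ℕ := [12, 6, 13, 0, 9, 19, 8, 21, 1, 18, 7, 20, 3, 16, 11, 5, 2, 23, 4, 15, 14, 10, 17, 22]

/-- the first generator -/
def X : Equiv.Perm GolayPt where
  toFun := fn tx
  invFun := fn txi
  left_inv := by decide +kernel
  right_inv := by decide +kernel

/-- the second generator -/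
def Y : Equiv.Perm GolayPt where
  toFun := fn ty
  invFun := fn tyi
  left_inv := by decide +kernel
  right_inv := by decide +kernel

theorem X_mem24 : X ∈ M24 :=
  SporadicA.GolayWalk.mem_M24_of_table X tx rfl (by decide +kernel) (by decide +kernel)

theorem Y_mem24 : Y ∈ M24 :=
  SporadicA.GolayWalk.mem_M24_of_table Y ty rfl (by decide +kernel) (by decide +kernel)

open Cfsg.Agent.SporadicStructure.M11InvPerms Cfsg.Agent.MTwelveType.SylowModel in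
theorem X_dd : ∀ p ∈ dd, X p ∈ dd := by decide +kernel

open Cfsg.Agent.SporadicStructure.M11InvPerms Cfsg.Agent.MTwelveType.SylowModel in
theorem Y_dd : ∀ p ∈ dd, Y p ∈ dd := by decide +kernel

theorem X_mem : X ∈ Spor.M12 := MTwelveType.SylowModel.mem_M12 X_mem24 X_dd

theorem Y_mem : Y ∈ Spor.M12 := MTwelveType.SylowModel.mem_M12 Y_mem24 Y_dd

/-- the stabiliser chain -/
def chain : List (GolayPt × List (List ℕ)) :=
  [(some 0, [[], [0], [1], [3], [1, 0], [3, 0], [0, 1, 0], [1, 0, 1, 0], [3, 0, 1, 0], [0, 1, 0, 1, 0], [1, 0, 1, 0, 1,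
    0], [3, 0, 1, 0, 1, 0]]),
   (some 1, [[], [1, 0, 1], [3, 0, 3], [0, 1, 0, 3, 0], [1, 0, 3, 0, 1], [3, 0, 1, 0, 3], [1, 0, 3, 0, 3, 0, 1], [0,
    1, 0, 3, 0, 1, 0, 1], [3, 0, 3, 0, 1, 0, 3, 0], [3, 0, 1, 0, 3, 0, 1, 0, 3, 0], [0, 3, 0, 1, 0, 3, 0, 3, 0, 3,
    0]]),
   (some 2, [[], [0, 1, 0, 3, 0, 3, 0, 1, 0, 1, 0, 3], [1, 0, 3, 0, 3, 0, 1, 0, 1, 0, 3, 0], [0, 3, 0, 1, 0, 3, 0, 3,
    0, 3, 0, 1, 0, 1], [0, 1, 0, 3, 0, 1, 0, 1, 0, 1, 0, 3, 0, 3, 0, 3], [0, 3, 0, 3, 0, 3, 0, 1, 0, 1, 0, 1, 0, 3,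
    0, 3], [1, 0, 1, 0, 3, 0, 3, 0, 3, 0, 1, 0, 1, 0, 1, 0], [1, 0, 1, 0, 1, 0, 3, 0, 3, 0, 1, 0, 1, 0, 1, 0, 3], [3,
    0, 1, 0, 1, 0, 1, 0, 3, 0, 1, 0, 3, 0, 1, 0, 1], [0, 3, 0, 1, 0, 3, 0, 1, 0, 1, 0, 3, 0, 3, 0, 3, 0, 1]]),
   (some 3, [[], [0, 1, 0, 3, 0, 3, 0, 3, 0, 1, 0, 3, 0, 3, 0, 1, 0, 3], [1, 0, 3, 0, 1, 0, 1, 0, 3, 0, 1, 0, 1, 0,
    1, 0, 3, 0], [0, 1, 0, 1, 0, 3, 0, 1, 0, 1, 0, 3, 0, 3, 0, 1, 0, 1, 0], [0, 3, 0, 3, 0, 1, 0, 1, 0, 3, 0, 3, 0,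
    1, 0, 3, 0, 3, 0], [3, 0, 1, 0, 3, 0, 3, 0, 1, 0, 1, 0, 3, 0, 1, 0, 1, 0, 1, 0], [3, 0, 3, 0, 3, 0, 1, 0, 3, 0,
    3, 0, 1, 0, 1, 0, 3, 0, 1, 0], [0, 1, 0, 1, 0, 1, 0, 3, 0, 1, 0, 3, 0, 1, 0, 1, 0, 3, 0, 1, 0, 3, 0], [3, 0, 1,
    0, 1, 0, 3, 0, 3, 0, 1, 0, 3, 0, 1, 0, 1, 0, 3, 0, 3, 0, 1]]),
   (some 4, [[], [0, 1, 0, 1, 0, 1, 0, 1, 0, 3, 0, 1, 0, 3, 0, 3, 0, 1, 0, 1, 0, 1], [3, 0, 3, 0, 3, 0, 1, 0, 1, 0,
    3, 0, 1, 0, 3, 0, 3, 0, 3, 0, 3, 0], [1, 0, 3, 0, 3, 0, 1, 0, 3, 0, 3, 0, 1, 0, 3, 0, 1, 0, 1, 0, 1, 0, 3, 0, 1],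
    [3, 0, 1, 0, 3, 0, 3, 0, 3, 0, 1, 0, 3, 0, 1, 0, 1, 0, 3, 0, 1, 0, 1, 0, 3], [0, 1, 0, 3, 0, 1, 0, 1, 0, 3, 0, 3,
    0, 3, 0, 1, 0, 1, 0, 1, 0, 3, 0, 3, 0, 1, 0, 3, 0], [1, 0, 1, 0, 3, 0, 3, 0, 1, 0, 3, 0, 3, 0, 3, 0, 1, 0, 1, 0,
    3, 0, 3, 0, 1, 0, 1, 0, 3, 0, 1, 0, 1], [3, 0, 3, 0, 1, 0, 3, 0, 3, 0, 1, 0, 1, 0, 3, 0, 3, 0, 1, 0, 1, 0, 1, 0,
    3, 0, 1, 0, 1, 0, 3, 0, 3]])]

theorem chain_ok : ok X Y [] chain = true := by decide +kernel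

theorem size_chain : size chain = 95040 := by decide +kernel

theorem closure_eq : Subgroup.closure ({X, Y} : Set (Equiv.Perm GolayPt)) = Spor.M12 :=
  Chain.closure_eq X_mem Y_mem chain chain_ok (by rw [size_chain, H807.El.card_M12])

/-- the first generator as an element of the group -/
def A : Spor.M12 := ⟨X, X_mem⟩
/-- the second generator as an element of the group -/
def B : Spor.M12 := ⟨Y, Y_mem⟩

theorem closure_top : Subgroup.closure ({A, B} : Set Spor.M12) = ⊤ := by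
  apply Subgroup.map_injective (Subgroup.subtype_injective Spor.M12)
  rw [MonoidHom.map_closure, Set.image_pair]
  simp only [Subgroup.coe_subtype]
  rw [← MonoidHom.range_eq_map, Subgroup.range_subtype]
  exact closure_eq

theorem order_A : orderOf A = 2 := by
  have := Fact.mk (show Nat.Prime 2 by norm_num)
  refine orderOf_eq_prime (Subtype.ext ?_) fun h => ?_
  · show X ^ 2 = 1
    decide +kernel
  · have h1 : X = 1 := congrArg Subtype.val h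
    exact absurd h1 (by decide +kernel)

theorem order_B : orderOf B = 3 := by
  have := Fact.mk (show Nat.Prime 3 by norm_num)
  refine orderOf_eq_prime (Subtype.ext ?_) fun h => ?_
  · show Y ^ 3 = 1
    decide +kernel
  · have h1 : Y = 1 := congrArg Subtype.val h
    exact absurd h1 (by decide +kernel)

theorem order_AB : orderOf (A * B) = 11 := by
  have := Fact.mk (show Nat.Prime 11 by norm_num)
  refine orderOf_eq_prime (Subtype.ext ?_) fun h => ?_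
  · show (X * Y) ^ 11 = 1
    decide +kernel
  · have h1 : X * Y = 1 := congrArg Subtype.val h
    exact absurd h1 (by decide +kernel)

end Cfsg.Agent.H715.Fpr.GenM12
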