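import Cfsg.Agent.H147.Fpr.Gen
import Cfsg.Agent.H715.Fpr.Row4_m3
import Cfsg.Prelude.Def_Spor_Mathieu
import Cfsg.Agent.H994.TwoGen.Suz
import Cfsg.Agent.H994.TwoGen.Chain
import Cfsg.Agent.MTwelveType.SylowModel
import Cfsg.Agent.J4.M24Hom
import Cfsg.Agent.H807.El.Mathieu
import Cfsg.Agent.H715.Fpr.M23_m3
import Cfsg.Agent.SporadicA.M11Facts2
import Cfsg.Agent.H715.Fpr.GenM12
import Cfsg.Agent.Prune
set_option linter.all false
prune_inst 0x7f00000000000000000000000000000000000000000000000000000000000000000000000000000000000000000000000000000000000000000000000000000000000000000000000000000000000000003fffffffffffffffffffffffffffbeffbdffffffff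
open scoped Cfsg.Agent.FastGrp

-- part: H715/Fpr/ReeTool
section
/-!
# Generating triples and indices (helper715)
-/

set_option autoImplicit false

namespace Cfsg.Agent.H715.Fpr

open Subgroup MulAction Cfsg.Agent.H409 Cfsg.Agent.H398.FPR Cfsg.Agent.H565.Scott Cfsg.Agent.H147.Fpr
open Cfsg.Agent.H940.Eng Cfsg.Agent.OrdDiv

universe u

/-- a generating triple of orders 2, 3, 11 and indices at least 12 -/
theorem fix_2_3_11 {S : Type u} [Group S] [Finite S] {x y : S} (hx : orderOf x = 2) (hy : orderOf y = 3)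
    (ht : orderOf (x * y) = 11) (hgen : closure ({x, y} : Set S) = ⊤) {H : Subgroup S} (hbig : 12 ≤ H.index) :
    3 * Nat.card (fixedBy (S ⧸ H) x) + 4 * Nat.card (fixedBy (S ⧸ H) y) ≤ Nat.card (S ⧸ H) := by
  have := Fintype.ofFinite (S ⧸ H)
  have h1 := ree_two (Ω := S ⧸ H) hgen
  have h2 := rk_prime (Ω := S ⧸ H) (p := 2) (by norm_num) hx
  have h3 := rk_prime (Ω := S ⧸ H) (p := 3) (by norm_num) hy
  have h4 := rk_order (Ω := S ⧸ H) (x := (x * y)⁻¹) (e := 11) (by rw [orderOf_inv, ht]) (by norm_num)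
  have h6 : Nat.card (S ⧸ H) = H.index := rfl
  rw [← Nat.card_eq_fintype_card, h6] at h1 h2 h3 h4
  rw [h6]
  omega

theorem rows_2_3_11 {S : Type u} [Group S] [Finite S] {x y : S} (hx : orderOf x = 2) (hy : orderOf y = 3)
    (ht : orderOf (x * y) = 11) (hgen : closure ({x, y} : Set S) = ⊤) (hbig : ∀ H : Subgroup S, H ≠ ⊤ → 12 ≤ H.index) :
    FprRow 3 1 2 S ∧ FprRow 4 1 3 S := by
  constructor
  · intro H hH
    refine ⟨x, ⟨1, by rw [hx, pow_one]⟩, ?_⟩
    have := fix_2_3_11 hx hy ht hgen (hbig H hH)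
    omega
  · intro H hH
    refine ⟨y, ⟨1, by rw [hy, pow_one]⟩, ?_⟩
    have := fix_2_3_11 hx hy ht hgen (hbig H hH)
    omega

/-- two generating elements have no common fixed point -/
theorem fix_add_le {S : Type u} [Group S] [Finite S] {x y : S} (hgen : closure ({x, y} : Set S) = ⊤) {H : Subgroup S}
    (hH : H ≠ ⊤) : Nat.card (fixedBy (S ⧸ H) x) + Nat.card (fixedBy (S ⧸ H) y) ≤ Nat.card (S ⧸ H) := by
  have hd : Disjoint (fixedBy (S ⧸ H) x) (fixedBy (S ⧸ H) y) := by
    rw [Set.disjoint_left]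
    intro w hx hy
    refine eq_empty_of_closure hgen hH (X := S ⧸ H) (ω := ((1 : S) : S ⧸ H)) (stabilizer_quotient H) w ?_
    rintro z (rfl | hz)
    · exact hx
    · rw [Set.mem_singleton_iff] at hz
      rw [hz]
      exact hy
  rw [Nat.card_coe_set_eq, Nat.card_coe_set_eq, ← Set.ncard_union_eq hd]
  exact Set.ncard_le_card _

/-- the least index of a proper subgroup from the engine -/
theorem index_ge {G : Type u} [Group G] {l : List (ℕ × ℕ)} {n : ℕ} {ords : List ℕ} {loc : List LD}
    (c : Ctx G l n ords loc) (K bd : ℕ)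
    (hc : ((List.range K).all fun d => Nat.ble d 1 || n % d != 0 || bad l n [] bd loc ords (n / d)) = true)
    (H : Subgroup G) (hH : H ≠ ⊤) : K ≤ H.index := by
  have := c.fin
  have := c.simple
  by_contra hlt
  rw [List.all_eq_true] at hc
  have h1 := hc _ (List.mem_range.2 (not_le.1 hlt))
  rw [Bool.or_eq_true, Bool.or_eq_true, Nat.ble_eq, bne_iff_ne] at h1
  have hdiv : n / H.index = Nat.card H := by
    rw [← c.card]
    exact Nat.div_eq_of_eq_mul_left (Nat.pos_of_ne_zero index_ne_zero_of_finite) (card_mul_index H).symm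
  rcases h1 with (h1 | h1) | h1
  · have h2 : H.index ≠ 0 := index_ne_zero_of_finite
    exact absurd (index_eq_one.1 (by omega)) hH
  · exact absurd (Nat.mod_eq_zero_of_dvd (by rw [← c.card]; exact index_dvd_card H)) h1
  · rw [hdiv, not_bad c.val c.card c.ords c.loc (fun p hp => absurd hp List.not_mem_nil) hH] at h1
    exact absurd h1 (by decide)

/-- fixed points of a `p`-group all of whose elements have the same number of fixed points -/
theorem fix_sylow_modEq {S : Type u} [Group S] [Finite S] {H P : Subgroup S} {f : ℕ}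
    (hf : ∀ s ∈ P, s ≠ 1 → Nat.card (fixedBy (S ⧸ H) s) = f) :
    ∃ k, Nat.card (S ⧸ H) + (Nat.card P - 1) * f = k * Nat.card P := by
  classical
  have := Fintype.ofFinite (S ⧸ H)
  have := Fintype.ofFinite P
  have := Fintype.ofFinite (MulAction.orbitRel.Quotient P (S ⧸ H))
  have h1 := MulAction.sum_card_fixedBy_eq_card_orbits_mul_card_group P (S ⧸ H)
  refine ⟨Fintype.card (Quotient (MulAction.orbitRel P (S ⧸ H))), ?_⟩
  rw [Nat.card_eq_fintype_card (α := P), ← h1, ← Finset.add_sum_erase _ _ (Finset.mem_univ (1 : P))]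
  congr 1
  · rw [Nat.card_eq_fintype_card]
    refine (Fintype.card_congr ?_).symm
    exact { toFun := fun w => w.1, invFun := fun w => ⟨w, one_smul P w⟩, left_inv := fun _ => rfl, right_inv := fun _ => rfl }
  · rw [Finset.sum_congr rfl (g := fun _ => f), Finset.sum_const, Finset.card_erase_of_mem (Finset.mem_univ _),
      Finset.card_univ, smul_eq_mul]
    intro s hs
    have h2 := hf (s : S) s.2 (fun h => (Finset.mem_erase.1 hs).1 (Subtype.ext h))
    rw [← h2, Nat.card_eq_fintype_card]
    exact Fintype.card_congr (Equiv.refl _)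

end Cfsg.Agent.H715.Fpr
end

-- part: H715/Fpr/GenM11
section
/-!
# Two elements of order 3 generating `M11` (helper715)
-/

set_option autoImplicit false

namespace Cfsg.Agent.H715.Fpr.GenM11

open Cfsg Cfsg.Agent.H994.TwoGen Cfsg.Agent.H994.TwoGen.Chain
open Cfsg.Agent.J4.M24Hom (fn)

/-- table of `X` -/
def tx : List ℕ := [0, 18, 9, 8, 4, 17, 3, 14, 6, 13, 7, 11, 12, 2, 10, 15, 1, 23, 16, 21, 20, 22, 19, 5]
/-- table of `X⁻¹` -/
def txi : List ℕ := [0, 16, 13, 6, 4, 23, 8, 10, 3, 2, 14, 11, 12, 9, 7, 15, 18, 5, 1, 22, 20, 19, 21, 17]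
/-- table of `Y` -/
def ty : List ℕ := [0, 1, 2, 4, 12, 15, 16, 7, 9, 13, 10, 22, 3, 8, 21, 19, 18, 17, 6, 5, 14, 20, 23, 11]
/-- table of `Y⁻¹` -/
def tyi : List ℕ := [0, 1, 2, 12, 3, 19, 18, 7, 13, 8, 10, 23, 4, 9, 20, 5, 6, 17, 16, 15, 21, 14, 11, 22]

/-- the first generator -/
def X : Equiv.Perm GolayPt where
  toFun := fn tx
  invFun := fn txi
  left_inv := by decide +kernel
  right_inv := by decide +kernel

/-- the second generator -/
def Y : Equiv.Perm GolayPt where
  toFun := fn ty
  invFun := fn tyi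
  left_inv := by decide +kernel
  right_inv := by decide +kernel

theorem X_mem24 : X ∈ M24 :=
  SporadicA.GolayWalk.mem_M24_of_table X tx rfl (by decide +kernel) (by decide +kernel)

theorem Y_mem24 : Y ∈ M24 :=
  SporadicA.GolayWalk.mem_M24_of_table Y ty rfl (by decide +kernel) (by decide +kernel)

open Cfsg.Agent.SporadicStructure.M11InvPerms Cfsg.Agent.MTwelveType.SylowModel in
theorem X_dd : ∀ p ∈ dd, X p ∈ dd := by decide +kernel

open Cfsg.Agent.SporadicStructure.M11InvPerms Cfsg.Agent.MTwelveType.SylowModel in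
theorem Y_dd : ∀ p ∈ dd, Y p ∈ dd := by decide +kernel

theorem X_mem : X ∈ Spor.M11 := by
  refine Subgroup.mem_inf.2 ⟨MTwelveType.SylowModel.mem_M12 X_mem24 X_dd, ?_⟩
  rw [MulAction.mem_stabilizer_iff]
  show X (some 0) = some 0
  decide +kernel

theorem Y_mem : Y ∈ Spor.M11 := by
  refine Subgroup.mem_inf.2 ⟨MTwelveType.SylowModel.mem_M12 Y_mem24 Y_dd, ?_⟩
  rw [MulAction.mem_stabilizer_iff]
  show Y (some 0) = some 0
  decide +kernel

/-- the stabiliser chain -/
def chain : List (GolayPt × List (List ℕ)) :=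
  [(some 1, [[], [0], [2], [1, 0], [0, 1, 0], [2, 1, 0], [1, 0, 1, 0], [1, 2, 1, 0], [3, 0, 1, 0], [3, 2, 1, 0], [2, 1,
    2, 1, 0]]),
   (some 2, [[], [0, 3, 0], [2, 1, 2], [1, 0, 3, 0], [1, 2, 1, 2], [3, 0, 3, 0], [3, 2, 1, 2], [2, 1, 2, 1, 0, 3, 0],
    [1, 2, 1, 2, 1, 0, 3, 0], [3, 2, 1, 2, 1, 0, 3, 0]]),
   (some 3, [[], [1], [3], [0, 1, 0, 1, 0, 1, 2, 1, 0], [0, 3, 0, 1, 0, 3, 2, 3, 0], [2, 1, 2, 1, 2, 1, 0, 1, 2], [2,
    3, 2, 1, 2, 3, 0, 3, 2], [1, 0, 3, 0, 1, 0, 3, 2, 3, 0], [3, 0, 1, 0, 1, 0, 1, 2, 1, 0]]),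
   (some 4, [[], [0, 1, 0, 1, 0, 1, 2, 1, 0, 3], [1, 0, 3, 2, 3, 0, 3, 0, 3, 0], [1, 2, 3, 0, 3, 2, 3, 2, 3, 2], [2,
    1, 2, 1, 2, 1, 0, 1, 2, 3], [2, 3, 2, 1, 2, 3, 0, 3, 2, 1], [3, 0, 1, 2, 1, 0, 3, 0, 1, 0], [3, 0, 3, 2, 1, 0, 1,
    2, 3, 0, 3, 2, 1, 0]])]

theorem chain_ok : ok X Y [] chain = true := by decide +kernel

theorem size_chain : size chain = 7920 := by decide +kernel

theorem closure_eq : Subgroup.closure ({X, Y} : Set (Equiv.Perm GolayPt)) = Spor.M11 :=
  Chain.closure_eq X_mem Y_mem chain chain_ok (by rw [size_chain, H807.El.card_M11])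

/-- the first generator as an element of the group -/
def A : Spor.M11 := ⟨X, X_mem⟩
/-- the second generator as an element of the group -/
def B : Spor.M11 := ⟨Y, Y_mem⟩

theorem closure_top : Subgroup.closure ({A, B} : Set Spor.M11) = ⊤ := by
  apply Subgroup.map_injective (Subgroup.subtype_injective Spor.M11)
  rw [MonoidHom.map_closure, Set.image_pair]
  simp only [Subgroup.coe_subtype]
  rw [← MonoidHom.range_eq_map, Subgroup.range_subtype]
  exact closure_eq

theorem order_A : orderOf A = 3 := by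
  have := Fact.mk (show Nat.Prime 3 by norm_num)
  refine orderOf_eq_prime (Subtype.ext ?_) fun h => ?_
  · show X ^ 3 = 1
    decide +kernel
  · have h1 : X = 1 := congrArg Subtype.val h
    exact absurd h1 (by decide +kernel)

theorem order_B : orderOf B = 3 := by
  have := Fact.mk (show Nat.Prime 3 by norm_num)
  refine orderOf_eq_prime (Subtype.ext ?_) fun h => ?_
  · show Y ^ 3 = 1
    decide +kernel
  · have h1 : Y = 1 := congrArg Subtype.val h
    exact absurd h1 (by decide +kernel)

end Cfsg.Agent.H715.Fpr.GenM11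
end

-- part: H715/Fpr/M11
section
/-!
# Fixed point ratios: `M11` (helper715)
-/

set_option autoImplicit false

namespace Cfsg.Agent.H715.Fpr.M11

open Cfsg Subgroup Cfsg.Agent.H409 Cfsg.Agent.OrdDiv Cfsg.Agent.H940.Eng Cfsg.Agent.H940.Eng.D
open Cfsg.Agent.H715.Fpr.MathData

theorem fin : Finite Spor.M11 := Nat.finite_of_card_ne_zero (by rw [card11]; decide)

def loc : List LD := [⟨5, 5, [(2, 2), (5, 1)]⟩, ⟨11, 11, [(5, 1), (11, 1)]⟩]

theorem ctx (B : Base) : Ctx Spor.M11 l_m11 n_m11 o_m11 loc where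
  fin := fin
  simple := simple11
  card := card11
  val := v_m11
  nodup := nd_m11
  ords := ords_m11 B
  loc := by
    have := fin
    have := simple11
    intro ld hld
    simp only [loc, List.mem_cons, List.not_mem_nil, or_false] at hld
    rcases hld with rfl | rfl
    · exact loc_of_eq card11 (by decide +kernel) (by decide +kernel) (by decide +kernel) fun R hR => by
        obtain ⟨h1, h2⟩ := cn11_5 hR
        rw [h1, h2]; decide
    · exact loc_of_eq card11 (by decide +kernel) (by decide +kernel) (by decide +kernel) fun R hR => by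
        obtain ⟨h1, h2⟩ := cn11_11 hR
        rw [h1, h2]; decide

theorem row2 (B : Base) : FprRow 3 1 2 Spor.M11 := by
  have := fin
  exact row_of_act3 (ctx B) (q := 5) (N := 20) (by decide +kernel) (by decide +kernel) (by decide +kernel)
    (acts_of card11 (by decide +kernel) (by decide +kernel) (by decide +kernel) (fun _ hR => cn11_5 hR) 1
      (by decide +kernel))
    (fun _ hR => (cn11_5 hR).2) 24 0 lb_zero [11, 22] 0 (by decide +kernel) (by decide +kernel)

theorem row5 (B : Base) : FprRow 6 1 5 Spor.M11 := by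
  have := fin
  exact row_of_act3 (ctx B) (q := 11) (N := 55) (by decide +kernel) (by decide +kernel) (by decide +kernel)
    (acts_of card11 (by decide +kernel) (by decide +kernel) (by decide +kernel) (fun _ hR => cn11_11 hR) 1
      (by decide +kernel))
    (fun _ hR => (cn11_11 hR).2) 60 0 lb_zero [12] 0 (by decide +kernel) (by decide +kernel)

theorem row11 (B : Base) : FprRow 12 1 11 Spor.M11 :=
  row_of_norm3 (ctx B) (by decide +kernel) (by decide +kernel) (by decide +kernel) (fun _ hR => (cn11_11 hR).2)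
    60 0 lb_zero [12] 0 (by decide +kernel) (by decide +kernel)

/-! ### the prime 3 -/

/-- elements of order 3: the number of fixed points mod 9 -/
theorem fix3 {x : Spor.M11} (hx : orderOf x = 3) (H : Subgroup Spor.M11) :
    Nat.card (MulAction.fixedBy (Spor.M11 ⧸ H) x) % 9 = Nat.card (Spor.M11 ⧸ H) % 9 ∧
      Nat.card (MulAction.fixedBy (Spor.M11 ⧸ H) x) ≤ 18 := by
  have := fin
  have f3 := Fact.mk Nat.prime_three
  refine ⟨?_, ?_⟩
  · obtain ⟨P, hP⟩ := (IsPGroup.of_card (G := zpowers x) (p := 3) (n := 1)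
      (by rw [Nat.card_zpowers, hx, pow_one])).exists_le_sylow
    have hxP : x ∈ (P : Subgroup Spor.M11) := hP (mem_zpowers x)
    have hx1 : x ≠ 1 := by
      rintro rfl
      rw [orderOf_one] at hx
      omega
    obtain ⟨k, hk⟩ := fix_sylow_modEq (H := H) (P := (P : Subgroup Spor.M11))
      (f := Nat.card (MulAction.fixedBy (Spor.M11 ⧸ H) x)) fun s hs hs1 => by
        obtain ⟨g, -, hg⟩ := SporadicA.M11Facts2.exists_conj_of_mem_sylow_three isM11 P hxP hx1 hs hs1
        -- `g * s * g⁻¹ = x`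
        have h1 := card_fixedBy_conj H s g⁻¹
        rw [inv_inv, hg] at h1
        exact h1.symm
    have h9 : Nat.card (P : Subgroup Spor.M11) = 9 := SporadicA.M11Three.card_P isM11 P
    rw [h9] at hk
    omega
  · exact (fix_le_cent H x).trans (SporadicA.M11Facts2.card_centralizer_three isM11 hx).le

theorem row3 (B : Base) : FprRow 4 1 3 Spor.M11 := by
  have := fin
  refine row_of_small (ctx B) (D := ⟨3, [], [18], [], []⟩) (K := 72) (lb := 0) (allow := [11, 22, 55]) (bd := 0)
    ⟨by decide +kernel, by simp, ?_, by simp, by simp⟩ (by decide +kernel) lb_zero fun H hH hm => ?_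
  · intro c hc
    rw [List.mem_singleton.1 hc]
    exact ⟨GenM11.A, ⟨1, by rw [GenM11.order_A]; rfl⟩,
      (SporadicA.M11Facts2.card_centralizer_three isM11 GenM11.order_A).le⟩
  · by_contra hcon
    push Not at hcon
    have h1 := hcon GenM11.A ⟨1, by rw [GenM11.order_A]; rfl⟩
    have h2 := hcon GenM11.B ⟨1, by rw [GenM11.order_B]; rfl⟩
    obtain ⟨h3, h4⟩ := fix3 GenM11.order_A H
    obtain ⟨h5, h6⟩ := fix3 GenM11.order_B H
    have h7 := fix_add_le GenM11.closure_top hH.1
    have hcard : Nat.card (Spor.M11 ⧸ H) = H.index := rfl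
    have e : (⟨3, [], [18], [], []⟩ : Dat2).p = 3 := rfl
    rw [e] at h1 h2
    rw [hcard] at h1 h2 h3 h5 h7
    simp only [List.mem_cons, List.not_mem_nil, or_false] at hm
    rcases hm with hm | hm | hm <;> rw [hm] at h1 h2 h3 h5 h7 <;> omega

/-- **the rows of `M11`** -/
theorem row (B : Base) {p : ℕ} (hp : p.Prime) (hd : p ∣ Nat.card Spor.M11) : FprRow (p + 1) 1 p Spor.M11 := by
  have h1 := valid_mem v_m11 hp (by rw [← card11]; exact hd)
  simp only [l_m11, List.map_cons, List.map_nil, List.mem_cons, List.not_mem_nil, or_false] at h1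
  rcases h1 with rfl | rfl | rfl | rfl
  · exact row2 B
  · exact row3 B
  · exact row5 B
  · exact row11 B

universe u in
theorem rowIso (B : Base) {S : Type u} [Group S] (h : Cfsg.Spor.IsoM11 S) {p : ℕ} (hp : p.Prime)
    (hd : p ∣ Nat.card S) : FprRow (p + 1) 1 p S := by
  obtain ⟨e⟩ := h
  have := fin
  exact (row B hp (by rw [← Nat.card_congr e.toEquiv]; exact hd)).of_mulEquiv hp e.symm

end Cfsg.Agent.H715.Fpr.M11
end

-- part: H715/Fpr/M12
section
/-!
# Fixed point ratios: `M12` (helper715)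
-/

set_option autoImplicit false

namespace Cfsg.Agent.H715.Fpr.M12

open Cfsg Subgroup Cfsg.Agent.H409 Cfsg.Agent.OrdDiv Cfsg.Agent.H940.Eng Cfsg.Agent.H940.Eng.D
open Cfsg.Agent.H715.Fpr.MathData

theorem fin : Finite Spor.M12 := Nat.finite_of_card_ne_zero (by rw [card12]; decide)

def loc : List LD := [⟨5, 10, [(2, 3), (5, 1)]⟩, ⟨11, 11, [(5, 1), (11, 1)]⟩]

theorem ctx (B : Base) : Ctx Spor.M12 l_m12 n_m12 o_m12 loc where
  fin := fin
  simple := simple12
  card := card12
  val := v_m12
  nodup := nd_m12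
  ords := ords_m12 B
  loc := by
    have := fin
    have := simple12
    intro ld hld
    simp only [loc, List.mem_cons, List.not_mem_nil, or_false] at hld
    rcases hld with rfl | rfl
    · exact loc_of_eq card12 (by decide +kernel) (by decide +kernel) (by decide +kernel) fun R hR => by
        obtain ⟨h1, h2⟩ := cn12_5 hR
        rw [h1, h2]; decide
    · exact loc_of_eq card12 (by decide +kernel) (by decide +kernel) (by decide +kernel) fun R hR => by
        obtain ⟨h1, h2⟩ := cn12_11 hR
        rw [h1, h2]; decide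

theorem row5 (B : Base) : FprRow 6 1 5 Spor.M12 := by
  have := fin
  exact row_of_act3 (ctx B) (q := 11) (N := 55) (by decide +kernel) (by decide +kernel) (by decide +kernel)
    (acts_of card12 (by decide +kernel) (by decide +kernel) (by decide +kernel) (fun _ hR => cn12_11 hR) 1
      (by decide +kernel))
    (fun _ hR => (cn12_11 hR).2) 60 0 lb_zero [12] 0 (by decide +kernel) (by decide +kernel)

theorem row11 (B : Base) : FprRow 12 1 11 Spor.M12 :=
  row_of_norm3 (ctx B) (by decide +kernel) (by decide +kernel) (by decide +kernel) (fun _ hR => (cn12_11 hR).2)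
    60 0 lb_zero [12] 0 (by decide +kernel) (by decide +kernel)

theorem row2 (B : Base) : FprRow 3 1 2 Spor.M12 := by
  have := fin
  exact (rows_2_3_11 GenM12.order_A GenM12.order_B GenM12.order_AB GenM12.closure_top
    (index_ge (ctx B) 12 0 (by decide +kernel))).1

theorem row3 (B : Base) : FprRow 4 1 3 Spor.M12 := by
  have := fin
  exact (rows_2_3_11 GenM12.order_A GenM12.order_B GenM12.order_AB GenM12.closure_top
    (index_ge (ctx B) 12 0 (by decide +kernel))).2

/-- **the rows of `M12`** -/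
theorem row (B : Base) {p : ℕ} (hp : p.Prime) (hd : p ∣ Nat.card Spor.M12) : FprRow (p + 1) 1 p Spor.M12 := by
  have h1 := valid_mem v_m12 hp (by rw [← card12]; exact hd)
  simp only [l_m12, List.map_cons, List.map_nil, List.mem_cons, List.not_mem_nil, or_false] at h1
  rcases h1 with rfl | rfl | rfl | rfl
  · exact row2 B
  · exact row3 B
  · exact row5 B
  · exact row11 B

universe u in
theorem rowIso (B : Base) {S : Type u} [Group S] (h : Cfsg.Spor.IsoM12 S) {p : ℕ} (hp : p.Prime)
    (hd : p ∣ Nat.card S) : FprRow (p + 1) 1 p S := by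
  obtain ⟨e⟩ := h
  have := fin
  exact (row B hp (by rw [← Nat.card_congr e.toEquiv]; exact hd)).of_mulEquiv hp e.symm

end Cfsg.Agent.H715.Fpr.M12
end

private theorem dce_18adf7a62d86 : _root_.True := by
  try have : _root_.True := by simp only [_root_.Cfsg.Agent.H715.Fpr.M12.loc.eq_1]
  try have : _root_.True := by simp only [_root_.Cfsg.Agent.H940.Eng.D.l_m11.eq_1]
  try have : _root_.True := by simp only [_root_.Cfsg.Agent.H940.Eng.D.l_m12.eq_1]
  try have : _root_.True := by simp only [_root_.Cfsg.Agent.H715.Fpr.M11.loc.eq_1]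
  exact _root_.True.intro
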